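import Mathlib.CategoryTheory.Abelian.SerreClass.Localization
import Mathlib.Algebra.Homology.DerivedCategory.ExactFunctor
import Mathlib.CategoryTheory.Limits.Preserves.Shapes.Kernels
import Mathlib.Algebra.Homology.ShortComplex.ExactFunctor

/-!
# Complexes lift along exact localization functors
-/

set_option autoImplicit false
set_option linter.style.haveILetI false

open CategoryTheory CategoryTheory.Limits

namespace Groth.Agent.QuotLift

universe w w' v v' u u'

variable {A : Type u} [Category.{v} A] [Abelian A] {Q : Type u'} [Category.{v'} Q] [Abelian Q]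
  (L : A ⥤ Q) [L.Additive] [PreservesFiniteLimits L] [PreservesFiniteColimits L]
  (W : MorphismProperty A) [L.IsLocalization W] [W.HasLeftCalculusOfFractions] [W.HasRightCalculusOfFractions]

include W in
/-- Lifting a differential to the right. -/
lemma step_right {X V : A} {P P' : Q} (e : L.obj X ≅ P) (z : V ⟶ X) (d : P ⟶ P') (hz : L.map z ≫ e.hom ≫ d = 0) :
    ∃ (Y : A) (e' : L.obj Y ≅ P') (f : X ⟶ Y), z ≫ f = 0 ∧ L.map f ≫ e'.hom = e.hom ≫ d := by
  haveI := Localization.essSurj L W
  let p := L.objObjPreimageIso P'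
  obtain ⟨φ, hφ⟩ := Localization.exists_leftFraction L W (e.hom ≫ d ≫ p.inv)
  haveI := Localization.inverts L W _ φ.hs
  have hf : L.map φ.f = e.hom ≫ d ≫ p.inv ≫ L.map φ.s := by
    rw [← φ.map_comp_map_s L (Localization.inverts L W), ← hφ]
    simp
  have h0 : L.map (z ≫ φ.f) = 0 := by
    rw [L.map_comp, hf, ← Category.assoc e.hom, ← Category.assoc (L.map z), hz, zero_comp]
  let c := cokernel.π (z ≫ φ.f)
  haveI : IsIso (L.map c) := by
    haveI : IsIso (cokernel.π (L.map (z ≫ φ.f))) := by
      rw [show cokernel.π (L.map (z ≫ φ.f)) = _ from rfl]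
      exact ⟨cokernel.desc _ (𝟙 _) (by rw [h0, zero_comp]), cokernel.π_desc _ _ _, coequalizer.hom_ext (by simp)⟩
    rw [show L.map c = cokernel.π (L.map (z ≫ φ.f)) ≫ (PreservesCokernel.iso L (z ≫ φ.f)).inv by
      rw [← PreservesCokernel.π_iso_hom, Category.assoc, Iso.hom_inv_id, Category.comp_id]]
    infer_instance
  refine ⟨_, (asIso (L.map c)).symm ≪≫ (asIso (L.map φ.s)).symm ≪≫ p, φ.f ≫ c, ?_, ?_⟩
  · rw [← Category.assoc]; exact cokernel.condition _
  · simp [hf]

include W in
/-- Lifting a differential to the left. -/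
lemma step_left {X V : A} {P P' : Q} (e : L.obj X ≅ P) (z : X ⟶ V) (d : P' ⟶ P) (hz : d ≫ e.inv ≫ L.map z = 0) :
    ∃ (Y : A) (e' : L.obj Y ≅ P') (f : Y ⟶ X), f ≫ z = 0 ∧ L.map f ≫ e.hom = e'.hom ≫ d := by
  haveI := Localization.essSurj L W
  let p := L.objObjPreimageIso P'
  obtain ⟨φ, hφ⟩ := Localization.exists_rightFraction L W (p.hom ≫ d ≫ e.inv)
  haveI := Localization.inverts L W _ φ.hs
  have hf : L.map φ.f = L.map φ.s ≫ p.hom ≫ d ≫ e.inv := by
    rw [← φ.map_s_comp_map L (Localization.inverts L W), ← hφ]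
  have h0 : L.map (φ.f ≫ z) = 0 := by
    rw [L.map_comp, hf, Category.assoc, Category.assoc, Category.assoc, hz, comp_zero, comp_zero]
  let c := kernel.ι (φ.f ≫ z)
  haveI : IsIso (L.map c) := by
    haveI : IsIso (kernel.ι (L.map (φ.f ≫ z))) :=
      ⟨kernel.lift _ (𝟙 _) (by rw [h0, comp_zero]), equalizer.hom_ext (by simp), kernel.lift_ι _ _ _⟩
    rw [show L.map c = (PreservesKernel.iso L (φ.f ≫ z)).hom ≫ kernel.ι (L.map (φ.f ≫ z)) by
      rw [← PreservesKernel.iso_inv_ι, Iso.hom_inv_id_assoc]]
    infer_instance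
  refine ⟨_, asIso (L.map c) ≪≫ asIso (L.map φ.s) ≪≫ p, c ≫ φ.f, ?_, ?_⟩
  · rw [Category.assoc]; exact kernel.condition _
  · simp [hf]

omit [Abelian A] [L.Additive] [PreservesFiniteLimits L] [PreservesFiniteColimits L] in
lemma left_hz {X Y : A} {P P' P'' : Q} {e : L.obj X ≅ P} {e' : L.obj Y ≅ P'} {f : Y ⟶ X} {d : P' ⟶ P}
    {d' : P'' ⟶ P'} (h : L.map f ≫ e.hom = e'.hom ≫ d) (hd : d' ≫ d = 0) : d' ≫ e'.inv ≫ L.map f = 0 := by
  rw [(Iso.eq_comp_inv e).2 h, Category.assoc, Iso.inv_hom_id_assoc, reassoc_of% hd, zero_comp]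

variable (K : CochainComplex Q ℤ)

/-- A partial lift, to be continued to the right. -/
structure RState (n : ℕ) where
  /-- the object -/
  X : A
  /-- the comparison -/
  e : L.obj X ≅ K.X (n : ℤ)
  /-- the source of the previous differential -/
  V : A
  /-- the previous differential -/
  z : V ⟶ X
  hz : L.map z ≫ e.hom ≫ K.d (n : ℤ) ((n : ℤ) + 1) = 0

/-- A partial lift, to be continued to the left. -/
structure LState (n : ℕ) where
  /-- the object -/
  X : A
  /-- the comparison -/
  e : L.obj X ≅ K.X (-(n : ℤ))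
  /-- the target of the next differential -/
  V : A
  /-- the next differential -/
  z : X ⟶ V
  hz : K.d (-((n + 1 : ℕ) : ℤ)) (-(n : ℤ)) ≫ e.inv ≫ L.map z = 0

variable {L K}

/-- One step to the left. -/
noncomputable def LState.next {n : ℕ} (S : LState L K n) : LState L K (n + 1) :=
  let h := step_left L W S.e S.z _ S.hz
  { X := h.choose
    e := h.choose_spec.choose
    V := S.X
    z := h.choose_spec.choose_spec.choose
    hz := left_hz L h.choose_spec.choose_spec.choose_spec.2 (K.d_comp_d _ _ _) }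

lemma LState.next_z_comp {n : ℕ} (S : LState L K n) : (S.next W).z ≫ S.z = 0 :=
  (step_left L W S.e S.z _ S.hz).choose_spec.choose_spec.choose_spec.1

lemma LState.next_comm {n : ℕ} (S : LState L K n) :
    L.map (S.next W).z ≫ S.e.hom = (S.next W).e.hom ≫ K.d (-((n + 1 : ℕ) : ℤ)) (-(n : ℤ)) :=
  (step_left L W S.e S.z _ S.hz).choose_spec.choose_spec.choose_spec.2

/-- One step to the right. -/
noncomputable def RState.next {n : ℕ} (S : RState L K n) : RState L K (n + 1) :=
  let h := step_right L W S.e S.z _ S.hz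
  { X := h.choose
    e := h.choose_spec.choose
    V := S.X
    z := h.choose_spec.choose_spec.choose
    hz := by
      refine (Category.assoc _ _ _).symm.trans ((congrArg (· ≫ _) h.choose_spec.choose_spec.choose_spec.2).trans ?_)
      exact (Category.assoc _ _ _).trans ((congrArg (S.e.hom ≫ ·) (K.d_comp_d _ _ _)).trans comp_zero) }

lemma RState.comp_next_z {n : ℕ} (S : RState L K n) : S.z ≫ (S.next W).z = 0 :=
  (step_right L W S.e S.z _ S.hz).choose_spec.choose_spec.choose_spec.1

lemma RState.next_comm {n : ℕ} (S : RState L K n) :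
    L.map (S.next W).z ≫ (S.next W).e.hom = S.e.hom ≫ K.d (n : ℤ) ((n : ℤ) + 1) :=
  (step_right L W S.e S.z _ S.hz).choose_spec.choose_spec.choose_spec.2

variable (L K)

/-- The first object. -/
noncomputable def l0 : LState L K 0 :=
  haveI := Localization.essSurj L W
  { X := L.objPreimage (K.X (-((0 : ℕ) : ℤ)))
    e := L.objObjPreimageIso _
    V := L.objPreimage (K.X (-((0 : ℕ) : ℤ)))
    z := 0
    hz := by rw [L.map_zero, comp_zero, comp_zero] }

/-- The negative part. -/
noncomputable def ls : (n : ℕ) → LState L K n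
  | 0 => l0 L W K
  | n + 1 => (ls n).next W

/-- The nonnegative part. -/
noncomputable def rs : (n : ℕ) → RState L K n
  | 0 =>
    { X := (ls L W K 0).X
      e := (ls L W K 0).e
      V := (ls L W K 1).X
      z := (ls L W K 1).z
      hz := by
        refine (Category.assoc _ _ _).symm.trans
          ((congrArg (fun g => g ≫ K.d _ _) ((ls L W K 0).next_comm W)).trans ?_)
        exact (Category.assoc _ _ _).trans ((congrArg (_ ≫ ·) (K.d_comp_d _ _ _)).trans comp_zero) }
  | n + 1 => (rs n).next W

/-- The objects. -/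
noncomputable def liftX : ℤ → A
  | .ofNat n => (rs L W K n).X
  | .negSucc m => (ls L W K (m + 1)).X

/-- The differentials. -/
noncomputable def liftD : ∀ i : ℤ, liftX L W K i ⟶ liftX L W K (i + 1)
  | .ofNat n => (rs L W K (n + 1)).z
  | .negSucc 0 => (ls L W K 1).z
  | .negSucc (m + 1) => (ls L W K (m + 1 + 1)).z

lemma liftD_comp : ∀ i : ℤ, liftD L W K i ≫ liftD L W K (i + 1) = 0
  | .ofNat n => (rs L W K (n + 1)).comp_next_z W
  | .negSucc 0 => (rs L W K 0).comp_next_z W
  | .negSucc 1 => (ls L W K 1).next_z_comp W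
  | .negSucc (m + 2) => (ls L W K (m + 2)).next_z_comp W

/-- The comparison. -/
noncomputable def liftE : ∀ i : ℤ, L.obj (liftX L W K i) ≅ K.X i
  | .ofNat n => (rs L W K n).e
  | .negSucc m => (ls L W K (m + 1)).e

lemma liftE_comm : ∀ i : ℤ, (liftE L W K i).hom ≫ K.d i (i + 1) = L.map (liftD L W K i) ≫ (liftE L W K (i + 1)).hom
  | .ofNat n => ((rs L W K n).next_comm W).symm
  | .negSucc 0 => ((ls L W K 0).next_comm W).symm
  | .negSucc (m + 1) => ((ls L W K (m + 1)).next_comm W).symm

/-- The lifted complex. -/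
noncomputable def lift : CochainComplex A ℤ := CochainComplex.of (liftX L W K) (liftD L W K) (liftD_comp L W K)

/-- The lifted complex maps to the given one. -/
noncomputable def liftIso : (L.mapHomologicalComplex (ComplexShape.up ℤ)).obj (lift L W K) ≅ K :=
  HomologicalComplex.Hom.isoOfComponents (liftE L W K) (by
    rintro i j (rfl : i + 1 = j)
    refine (liftE_comm L W K i).trans ?_
    simp [lift]
    rfl)

include W in
/-- The functor on derived categories is essentially surjective. -/
theorem essSurj_mapDerivedCategory [HasDerivedCategory.{w} A] [HasDerivedCategory.{w'} Q] :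
    L.mapDerivedCategory.EssSurj where
  mem_essImage X :=
    ⟨DerivedCategory.Q.obj (lift L W (DerivedCategory.Q.objPreimage X)),
      ⟨L.mapDerivedCategoryFactors.app _ ≪≫ DerivedCategory.Q.mapIso (liftIso L W _) ≪≫
        DerivedCategory.Q.objObjPreimageIso X⟩⟩

end Groth.Agent.QuotLift
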